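import Cfsg.Agent.LE.J2U.Good
import Cfsg.Agent.LE.J2U.Certs

/-!
# Uniqueness of the Hall–Janko group, V: the presentation is determined (owner: helper80)
-/
set_option autoImplicit false
set_option linter.all false

namespace Cfsg.Agent.LE.J2U

open Subgroup Cfsg.Agent.H90 Equiv Cfsg.Agent.CosetEnum

variable {G : Type*} [Group G]

theorem bad {f y k z a e d s : G} {RL : List (List ℕ × ℕ)} (C : Cert 11 iv RL [[1], [2], [4], [6], [7], [8]] 1)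
    (hg : Good (gg f y k z a e d s) 11 iv RL) (E : Eqs f y k z a e d s) (ez : e ≠ z) : False := by
  obtain ⟨φ, hφ⟩ := qg_univ hg
  have h1 := C.apply (qg_good 11 iv RL) (H := (centralizer ({z} : Set G)).comap φ) (by
    intro r hr
    simp only [List.mem_cons, List.not_mem_nil, or_false] at hr
    rw [Subgroup.mem_comap, mem_centralizer_singleton_iff]
    rcases hr with rfl | rfl | rfl | rfl | rfl | rfl <;>
      simp only [List.map_cons, List.map_nil, List.prod_cons, List.prod_nil, mul_one, hφ, gg]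
    · exact E.fz
    · exact E.yz
    · exact E.kz
    · exact E.az
    · exact E.ez)
  have h2 : ((centralizer ({z} : Set G)).comap φ).relIndex (Cl (qg 11 iv RL) 11) = 1 := by omega
  have h3 := Subgroup.relIndex_eq_one.1 h2
  have h4 : qg 11 iv RL 9 ∈ Cl (qg 11 iv RL) 11 := mem_Cl _ (by decide)
  have h5 := h3 h4
  rw [Subgroup.mem_comap, mem_centralizer_singleton_iff, hφ] at h5
  have h6 : d * z = z * d := h5
  rw [E.D.dz] at h6
  exact ez (mul_left_cancel h6).symm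

/-- the relators of the Hall–Janko group -/
def j2RL : List (List ℕ × ℕ) := baseRL ++ [([9, 7, 9, 7, 2], 1), ([1, 3, 5, 3, 9, 1, 3, 5, 3, 11, 7, 6, 11, 8, 2, 7], 1)]

theorem j2RL_eq : j2RL = Cfsg.Agent.CosetEnum.J2U.Good11.RL := rfl

theorem word_eq {f y k z a e d s : G} (E : Eqs f y k z a e d s) {w Y : G}
    (h : (f * y⁻¹ * k⁻¹ * y⁻¹) * d * (f * y⁻¹ * k⁻¹ * y⁻¹) = w * Y * (e * s * z * a * s)) :
    f * (y⁻¹ * (k⁻¹ * (y⁻¹ * (d * (f * (y⁻¹ * (k⁻¹ * (y⁻¹ * (s * (a * (z * (s * (e * (Y⁻¹ * w⁻¹)))))))))))))) = 1 := by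
  have zi : z⁻¹ = z := inv_eq_of_mul_eq_one_left E.zz
  have ai : a⁻¹ = a := inv_eq_of_mul_eq_one_left E.aa
  have ei : e⁻¹ = e := inv_eq_of_mul_eq_one_left E.ee
  have si : s⁻¹ = s := inv_eq_of_mul_eq_one_left E.D.ss
  have h1 : (e * s * z * a * s)⁻¹ = s * a * z * s * e := by
    simp only [mul_inv_rev, zi, ai, ei, si, mul_assoc]
  calc _ = (f * y⁻¹ * k⁻¹ * y⁻¹) * d * (f * y⁻¹ * k⁻¹ * y⁻¹) * (s * a * z * s * e) * Y⁻¹ * w⁻¹ := by
        simp only [mul_assoc]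
    _ = 1 := by rw [h, ← h1]; group

theorem Rels.good {f y k z a e d s : G} {j i : ℕ} {w : G} (R : Rels f y k z a e d s j i w) :
    Good (gg f y k z a e d s) 11 iv j2RL := by
  obtain ⟨E, hj, hi, hw, hda, hwd, hez⟩ := R
  have zi : z⁻¹ = z := inv_eq_of_mul_eq_one_left E.zz
  have ai : a⁻¹ = a := inv_eq_of_mul_eq_one_left E.aa
  have y2 : y ^ 2 = y⁻¹ := by
    rw [pow_two]; exact eq_inv_of_mul_eq_one_left E.yyy
  have hword := word_eq E hwd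
  have hda' : d * (a * (d * (a * (y ^ j)⁻¹))) = 1 := by
    calc d * (a * (d * (a * (y ^ j)⁻¹))) = (d * a) * (d * a) * (y ^ j)⁻¹ := by simp only [mul_assoc]
      _ = 1 := by rw [hda, mul_inv_cancel]
  rcases hj with rfl | rfl <;> rcases hw with rfl | rfl | rfl | rfl <;> rcases hi with rfl | rfl | rfl
  · exact (bad Cfsg.Agent.CosetEnum.J2U.Bad100.cert (E.good (p := [9, 7, 9, 7, 3]) (q := [1, 3, 5, 3, 9, 1, 3, 5, 3, 11, 7, 6, 11, 8]) (by simpa [gg, y2] using hda') (by simpa [gg, y2, zi, ai] using hword)) E hez).elim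
  · exact (bad Cfsg.Agent.CosetEnum.J2U.Bad101.cert (E.good (p := [9, 7, 9, 7, 3]) (q := [1, 3, 5, 3, 9, 1, 3, 5, 3, 11, 7, 6, 11, 8, 3]) (by simpa [gg, y2] using hda') (by simpa [gg, y2, zi, ai] using hword)) E hez).elim
  · exact (bad Cfsg.Agent.CosetEnum.J2U.Bad102.cert (E.good (p := [9, 7, 9, 7, 3]) (q := [1, 3, 5, 3, 9, 1, 3, 5, 3, 11, 7, 6, 11, 8, 2]) (by simpa [gg, y2] using hda') (by simpa [gg, y2, zi, ai] using hword)) E hez).elim
  · exact (bad Cfsg.Agent.CosetEnum.J2U.Bad110.cert (E.good (p := [9, 7, 9, 7, 3]) (q := [1, 3, 5, 3, 9, 1, 3, 5, 3, 11, 7, 6, 11, 8, 6]) (by simpa [gg, y2] using hda') (by simpa [gg, y2, zi, ai] using hword)) E hez).elim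
  · exact (bad Cfsg.Agent.CosetEnum.J2U.Bad111.cert (E.good (p := [9, 7, 9, 7, 3]) (q := [1, 3, 5, 3, 9, 1, 3, 5, 3, 11, 7, 6, 11, 8, 3, 6]) (by simpa [gg, y2] using hda') (by simpa [gg, y2, zi, ai] using hword)) E hez).elim
  · exact (bad Cfsg.Agent.CosetEnum.J2U.Bad112.cert (E.good (p := [9, 7, 9, 7, 3]) (q := [1, 3, 5, 3, 9, 1, 3, 5, 3, 11, 7, 6, 11, 8, 2, 6]) (by simpa [gg, y2] using hda') (by simpa [gg, y2, zi, ai] using hword)) E hez).elim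
  · exact (bad Cfsg.Agent.CosetEnum.J2U.Bad120.cert (E.good (p := [9, 7, 9, 7, 3]) (q := [1, 3, 5, 3, 9, 1, 3, 5, 3, 11, 7, 6, 11, 8, 7]) (by simpa [gg, y2] using hda') (by simpa [gg, y2, zi, ai] using hword)) E hez).elim
  · exact (bad Cfsg.Agent.CosetEnum.J2U.Bad121.cert (E.good (p := [9, 7, 9, 7, 3]) (q := [1, 3, 5, 3, 9, 1, 3, 5, 3, 11, 7, 6, 11, 8, 3, 7]) (by simpa [gg, y2] using hda') (by simpa [gg, y2, zi, ai] using hword)) E hez).elim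
  · exact (bad Cfsg.Agent.CosetEnum.J2U.Bad122.cert (E.good (p := [9, 7, 9, 7, 3]) (q := [1, 3, 5, 3, 9, 1, 3, 5, 3, 11, 7, 6, 11, 8, 2, 7]) (by simpa [gg, y2] using hda') (by simpa [gg, y2, zi, ai] using hword)) E hez).elim
  · exact (bad Cfsg.Agent.CosetEnum.J2U.Bad130.cert (E.good (p := [9, 7, 9, 7, 3]) (q := [1, 3, 5, 3, 9, 1, 3, 5, 3, 11, 7, 6, 11, 8, 7, 6]) (by simpa [gg, y2] using hda') (by simpa [gg, y2, zi, ai] using hword)) E hez).elim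
  · exact (bad Cfsg.Agent.CosetEnum.J2U.Bad131.cert (E.good (p := [9, 7, 9, 7, 3]) (q := [1, 3, 5, 3, 9, 1, 3, 5, 3, 11, 7, 6, 11, 8, 3, 7, 6]) (by simpa [gg, y2] using hda') (by simpa [gg, y2, zi, ai] using hword)) E hez).elim
  · exact (bad Cfsg.Agent.CosetEnum.J2U.Bad132.cert (E.good (p := [9, 7, 9, 7, 3]) (q := [1, 3, 5, 3, 9, 1, 3, 5, 3, 11, 7, 6, 11, 8, 2, 7, 6]) (by simpa [gg, y2] using hda') (by simpa [gg, y2, zi, ai] using hword)) E hez).elim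
  · exact (bad Cfsg.Agent.CosetEnum.J2U.Bad200.cert (E.good (p := [9, 7, 9, 7, 2]) (q := [1, 3, 5, 3, 9, 1, 3, 5, 3, 11, 7, 6, 11, 8]) (by simpa [gg, y2] using hda') (by simpa [gg, y2, zi, ai] using hword)) E hez).elim
  · exact (bad Cfsg.Agent.CosetEnum.J2U.Bad201.cert (E.good (p := [9, 7, 9, 7, 2]) (q := [1, 3, 5, 3, 9, 1, 3, 5, 3, 11, 7, 6, 11, 8, 3]) (by simpa [gg, y2] using hda') (by simpa [gg, y2, zi, ai] using hword)) E hez).elim
  · exact (bad Cfsg.Agent.CosetEnum.J2U.Bad202.cert (E.good (p := [9, 7, 9, 7, 2]) (q := [1, 3, 5, 3, 9, 1, 3, 5, 3, 11, 7, 6, 11, 8, 2]) (by simpa [gg, y2] using hda') (by simpa [gg, y2, zi, ai] using hword)) E hez).elim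
  · exact (bad Cfsg.Agent.CosetEnum.J2U.Bad210.cert (E.good (p := [9, 7, 9, 7, 2]) (q := [1, 3, 5, 3, 9, 1, 3, 5, 3, 11, 7, 6, 11, 8, 6]) (by simpa [gg, y2] using hda') (by simpa [gg, y2, zi, ai] using hword)) E hez).elim
  · exact (bad Cfsg.Agent.CosetEnum.J2U.Bad211.cert (E.good (p := [9, 7, 9, 7, 2]) (q := [1, 3, 5, 3, 9, 1, 3, 5, 3, 11, 7, 6, 11, 8, 3, 6]) (by simpa [gg, y2] using hda') (by simpa [gg, y2, zi, ai] using hword)) E hez).elim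
  · exact (bad Cfsg.Agent.CosetEnum.J2U.Bad212.cert (E.good (p := [9, 7, 9, 7, 2]) (q := [1, 3, 5, 3, 9, 1, 3, 5, 3, 11, 7, 6, 11, 8, 2, 6]) (by simpa [gg, y2] using hda') (by simpa [gg, y2, zi, ai] using hword)) E hez).elim
  · exact (bad Cfsg.Agent.CosetEnum.J2U.Bad220.cert (E.good (p := [9, 7, 9, 7, 2]) (q := [1, 3, 5, 3, 9, 1, 3, 5, 3, 11, 7, 6, 11, 8, 7]) (by simpa [gg, y2] using hda') (by simpa [gg, y2, zi, ai] using hword)) E hez).elim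
  · exact (bad Cfsg.Agent.CosetEnum.J2U.Bad221.cert (E.good (p := [9, 7, 9, 7, 2]) (q := [1, 3, 5, 3, 9, 1, 3, 5, 3, 11, 7, 6, 11, 8, 3, 7]) (by simpa [gg, y2] using hda') (by simpa [gg, y2, zi, ai] using hword)) E hez).elim
  · exact E.good (p := [9, 7, 9, 7, 2]) (q := [1, 3, 5, 3, 9, 1, 3, 5, 3, 11, 7, 6, 11, 8, 2, 7]) (by simpa [gg, y2] using hda') (by simpa [gg, y2, zi, ai] using hword)
  · exact (bad Cfsg.Agent.CosetEnum.J2U.Bad230.cert (E.good (p := [9, 7, 9, 7, 2]) (q := [1, 3, 5, 3, 9, 1, 3, 5, 3, 11, 7, 6, 11, 8, 7, 6]) (by simpa [gg, y2] using hda') (by simpa [gg, y2, zi, ai] using hword)) E hez).elim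
  · exact (bad Cfsg.Agent.CosetEnum.J2U.Bad231.cert (E.good (p := [9, 7, 9, 7, 2]) (q := [1, 3, 5, 3, 9, 1, 3, 5, 3, 11, 7, 6, 11, 8, 3, 7, 6]) (by simpa [gg, y2] using hda') (by simpa [gg, y2, zi, ai] using hword)) E hez).elim
  · exact (bad Cfsg.Agent.CosetEnum.J2U.Bad232.cert (E.good (p := [9, 7, 9, 7, 2]) (q := [1, 3, 5, 3, 9, 1, 3, 5, 3, 11, 7, 6, 11, 8, 2, 7, 6]) (by simpa [gg, y2] using hda') (by simpa [gg, y2, zi, ai] using hword)) E hez).elim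

end Cfsg.Agent.LE.J2U
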