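import Cfsg.Agent.LE.J2U.TData

/-! Permutation table (generated data, owner: helper80, tool of helper28). -/

set_option autoImplicit false
set_option maxRecDepth 1000000

namespace Cfsg.Agent.CosetEnum.J2UT

theorem h0_0 : allR (orbC P letsk [] 0 1) 0 1 = true := by decide +kernel

theorem h1_0 : allR (orbC P letsk [] 1 11) 1 10 = true := by decide +kernel

theorem h2_0 : allR (orbC P letsk [] 11 171) 11 160 = true := by decide +kernel

theorem h3_0 : allR (orbC P letsk [] 171 203) 171 32 = true := by decide +kernel

theorem h4_0 : allR (orbC P letsk [] 203 283) 203 80 = true := by decide +kernel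

theorem h5_0 : allR (orbC P letsk [] 283 315) 283 32 = true := by decide +kernel

end Cfsg.Agent.CosetEnum.J2UT
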