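import Cfsg.Agent.LE.J2U.TData

/-! Base and transversals (generated data, owner: helper80, tool of helper28). -/

set_option autoImplicit false
set_option maxRecDepth 1000000

namespace Cfsg.Agent.CosetEnum.J2UT

def ls : List (Nat × List Nat) := [(0, [0x0, 0x9, 0x49, 0x59, 0xa, 0x149, 0x249, 0x4a, 0x5a, 0x14a, 0x24a, 0xb, 0x4b, 0x5b, 0x6b, 0x7b, 0x8b, 0x14b, 0x24b, 0x64b, 0x74b, 0x84b, 0x65b, 0x75b, 0x85b, 0xb59, 0x86b, 0x17b, 0x57b, 0x87b, 0x48b, 0x78b, 0x614b, 0x714b, 0x814b, 0x624b, 0x724b, 0x824b, 0x4b49, 0x4b59, 0x174b, 0x6b49, 0x874b, 0x784b, 0x765b, 0x5b49, 0x175b, 0xa5b, 0x785b, 0xb249, 0x5b59, 0xa64b, 0x217b, 0x417b, 0x517b, 0x717b, 0x817b, 0x157b, 0x357b, 0x757b, 0x857b, 0xa84b, 0x148b, 0x5a5b, 0xa4b, 0x178b, 0x4a4b, 0x3674b, 0x6147b, 0x4147b,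 0x3874b, 0x7147b, 0x6724b, 0x1975b, 0x5724b, 0x8724b, 0x7247b, 0x1674b, 0xb49, 0x2174b, 0x7174b, 0x1874b, 0x7485b, 0xb84b, 0x4874b, 0xb4a4a, 0x7b49, 0x2a46b, 0x7248b, 0xa24b, 0x8b49, 0x2a47b, 0x4b47b, 0xb149, 0x41b59, 0x51b59, 0x71b59, 0x7957b, 0x5b149, 0x1a46b, 0x7217b, 0x1b47b, 0x7417b, 0x4717b, 0x2757b, 0xb4a4b, 0x1957b, 0xba57b, 0xa5a59, 0x7817b, 0x6957b, 0x1857b, 0x3757b, 0x3857b, 0x1757b, 0x8757b, 0x47a4b, 0x1a47b, 0x7a47b, 0x9874b, 0xa14b, 0x15a5b, 0x7a4b, 0x8b149, 0x4178b, 0x5178b, 0x14a4b, 0x34a4b, 0xa757b, 0x74184b, 0xa75b59, 0x24957b, 0x472b49, 0x2957b, 0x4b248b, 0xa5959, 0x95195a, 0x48715b, 0xb43b4a, 0x57247b, 0x4b149, 0x4974b, 0x9174b, 0xb5a5b, 0x3957b, 0x9784b, 0x43a47b, 0x4a14b, 0x74a5b, 0x7b47b, 0x4957b, 0x86357b, 0x74817b, 0x974b, 0x7b149,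 0xa42a49, 0x4a24b, 0x5957b, 0x3974b, 0x8957b, 0x951b59, 0x9674b, 0xa4a4a, 0x957b, 0x73b47b, 0x247a4b, 0xb4949, 0x43b47b, 0x48b149, 0x13974b, 0xa4b4a, 0xb9, 0x6b9, 0x7b9, 0x8b9, 0x76b9, 0xa6b, 0x17b9, 0x57b9, 0xa59b, 0x78b9, 0x617ab, 0x4a6b, 0x217ab, 0x717ab, 0x91b59, 0x748ab, 0xba49, 0xba47b, 0x1987b, 0x5987b, 0x34a6b, 0x4b74b, 0xb174b, 0x9b149, 0x1b57b, 0x5b57b, 0x3b74b, 0x7a479b, 0xb724b, 0x4b57b, 0xb74b, 0xb57b, 0x949, 0x9149, 0x9249, 0x4949, 0x5949, 0x94a, 0x7949, 0x7b4a, 0x1a74b, 0x914a, 0xa24a, 0x959, 0x1a57b, 0x59159, 0x7a49, 0xa4a, 0x2a74b, 0x4a74b, 0xa57b, 0x494a, 0x4a49, 0x4a14a, 0x5a74b, 0x594a, 0x5a49, 0xa149, 0x5a14a, 0x5a57b, 0xa74b, 0x4914a, 0xb4a, 0x87b4a, 0x5959, 0x5914a, 0x4b4a, 0xa249, 0xa5a, 0x85959, 0x4959, 0x95a, 0xa59, 0x15959, 0x41b5b,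 0x4a4a, 0x51b5b, 0xa49, 0x95b, 0x1494a, 0xb14a, 0x4914b, 0x2494a, 0x9757b, 0x42b4a, 0x4a57b, 0x6a57b, 0x7a57b, 0x8a57b, 0x4794a, 0x14a49, 0x28b4a, 0x8a74b, 0xa248b, 0x5794a, 0x418b4a, 0x34a4a, 0x6a74b, 0xb24a, 0x4a59, 0x4a159, 0x8b4a, 0x595a, 0x5a59, 0x5a159, 0x52b4a, 0x1595a, 0x1694b, 0xb757b, 0x18b4a, 0x415a49, 0xa674b, 0xba, 0x4ba, 0x5ba, 0x6ba, 0x7ba, 0x8ba, 0x14ba, 0x24ba, 0x64ba, 0x74ba, 0x84ba, 0x65ba, 0x85ba, 0x98b, 0x17ba, 0x57ba, 0x1649b, 0x714ba, 0x184ba, 0x2649b, 0x724ba, 0x176ba, 0x8649b, 0x874ba, 0x784ba, 0xa217b, 0x417ba, 0x517ba, 0x717ba, 0x357ba, 0x41479b, 0x3174ba]), (1, [0x0, 0x4, 0x5, 0x7, 0x14, 0x24, 0x74, 0x57, 0x714, 0x724]), (11, [0x0, 0x6, 0x8, 0x86, 0x717, 0x5874, 0x5784, 0x7176, 0x7217, 0x7178, 0x7817, 0x74875, 0x47857, 0x72176,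 0x78217, 0x57417]), (5, [0x1, 0x13, 0x0, 0x3]), (7, [0x0, 0x12, 0x31])]

theorem chain : chainB P lets ls [] = true := by decide +kernel

end Cfsg.Agent.CosetEnum.J2UT
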