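import Cfsg.Agent.LE.J2U.TData

/-! Words (generated data, owner: helper80, tool of helper28). -/

set_option autoImplicit false
set_option maxRecDepth 1000000

namespace Cfsg.Agent.CosetEnum.J2UT

def zs : List (List Nat) := [[6]]

def nr : List (Nat × List Nat × List (List Nat)) := [(1, [6], [[6]]), (2, [6], [[6]]), (3, [6], [[6]]), (4, [6], [[6]]), (5, [6], [[6]]), (6, [6], [[6]]), (7, [6], [[6]]), (8, [6], [[6]])]

def us : List (List Nat) := [[6, 6, 6, 6], [1, 6, 1, 6], [2, 6, 3, 6], [3, 6, 2, 6], [4, 6, 5, 6], [5, 6, 4, 6], [6, 6, 6, 6], [7, 6, 7, 6], [8, 6, 8, 6]]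

theorem zc0 : allR (trivB P us) 0 315 = true := by decide +kernel

end Cfsg.Agent.CosetEnum.J2UT
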