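import Cfsg.Agent.LE.J2U.Main
import Cfsg.Agent.LE.J2U.CertsK
import Cfsg.Agent.LE.J2U.T
import Cfsg.Agent.LE.J2U.X
import Cfsg.Agent.LE.J2U.Z

/-!
# Uniqueness of the Hall–Janko group, VI: order and simplicity of the presented group (owner: helper80)
-/
set_option autoImplicit false
set_option maxRecDepth 1000000
set_option linter.all false

namespace Cfsg.Agent.LE.J2U

open Subgroup Cfsg.Agent.CosetEnum

/-- the presented `J₂` -/
abbrev QJ : Type := QG 11 iv j2RL

/-- its letters -/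
abbrev qj : ℕ → QJ := qg 11 iv j2RL

theorem UJ : Univ qj 11 iv j2RL := univ_qg _ _ _

theorem bdJ : Bd (⊤ : Subgroup QJ) 604800 := by
  have g := UJ.good
  rw [← UJ.top]
  have h3 := (Bd.zero qj).cl (M := 12) J2U.Good3.cert g (by decide +kernel) (by decide +kernel) (by norm_num) rfl
  have h5 := h3.cl (M := 60) J2U.Good5.cert g (by decide +kernel) (by decide +kernel) (by norm_num) rfl
  have h8 := h5.cl (M := 1920) J2U.Good8.cert g (by decide +kernel) (by decide +kernel) (by norm_num) rfl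
  exact h8.cl (M := 604800) J2U.Good11.cert g (by decide +kernel) (by decide +kernel) (by norm_num) rfl

theorem LJ : Lvl qj 11 iv J2UT.lets J2UT.P 8 [11, 171, 203, 283, 315] :=
  lvl_of UJ J2UT.tabOK J2UT.sk (by norm_num) J2UT.covO J2UT.orbs J2UT.last (show 1 < 315 by norm_num)
    (J2U.Good11.cert.cl UJ.good (by decide +kernel) (by decide +kernel) (by norm_num))

theorem FJ : Faith qj J2UT.lets J2UT.P ∧
    ((∃ A : MulAction QJ (Fin J2UT.P.m), @Acts QJ _ J2UT.P A qj J2UT.lets) → Nat.card QJ = 604800) :=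
  faith_of_chain J2UT.tabOK.subB UJ.top J2UT.chain bdJ (by decide +kernel)

theorem cardJ : Nat.card QJ = 604800 := by
  obtain ⟨A, _, _, _, _, hA, _⟩ := LJ.ex
  exact FJ.2 ⟨A, hA⟩

theorem simpleJ : IsSimpleGroup QJ := by
  have hus : J2UT.us = abW iv J2UT.zs J2UT.nr := by decide +kernel
  refine LJ.iwasawa UJ.good.inv FJ.1 (by decide +kernel) J2UT.zs J2UT.nr (by decide +kernel) (by decide +kernel)
    (hus ▸ Cov.of J2UT.zc0 rfl) ?_ ?_
  · intro N hN hz
    exact collapse UJ.good UJ.top N hz J2U.K1.cert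
  · exact perfect_of UJ.good UJ.top (lets := J2UT.lets) J2U.K2.cert

/-- **Uniqueness**: a group satisfying the relations, of order 604800, is the presented group. -/
theorem Rels.iso {G : Type*} [Group G] {f y k z a e d s : G} {j i : ℕ} {w : G}
    (R : Rels f y k z a e d s j i w) (z1 : z ≠ 1) (hG : Nat.card G = 604800) : Nonempty (QJ ≃* G) := by
  obtain ⟨φ, hφ⟩ := qg_univ R.good
  haveI := simpleJ
  have hinj : Function.Injective φ := by
    rw [← MonoidHom.ker_eq_bot_iff]
    rcases (inferInstance : φ.ker.Normal).eq_bot_or_eq_top with h | h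
    · exact h
    · exfalso
      have h1 : qj 6 ∈ φ.ker := by rw [h]; trivial
      rw [MonoidHom.mem_ker, hφ] at h1
      exact z1 h1
  haveI : Finite G := Nat.finite_of_card_ne_zero (by rw [hG]; norm_num)
  have hbij : Function.Bijective φ := (Nat.bijective_iff_injective_and_card φ).2 ⟨hinj, by rw [cardJ, hG]⟩
  exact ⟨MulEquiv.ofBijective φ hbij⟩

theorem J2Set.iso {G : Type*} [Group G] [Finite G] {Q : Subgroup G} {z v : G} {x : Fin 5 → G} {E L K : Subgroup G}
    (S : J2Set Q z x v) (h : J2Loc z v E L K) : Nonempty (QJ ≃* G) := by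
  obtain ⟨f, y, a, F, aQ, fK, yK, f1, y1, eL⟩ := exists_four S h
  obtain ⟨k, e, d, s, j, i, w, R⟩ := Ctx.exists_rels ⟨S, h, F, aQ, fK, yK, f1, y1, eL⟩
  exact R.iso S.B.pl.ne_one h.cardG

/-- **Uniqueness of the Hall–Janko group**, intrinsic form. -/
theorem iso_of_type {G : Type*} [Group G] [Finite G] (z : G) (hz : orderOf z = 2)
    (Q : Subgroup (Subgroup.centralizer ({z} : Set G)))
    [Q.Normal] (hF : Cfsg.generalizedFittingSubgroup (Subgroup.centralizer ({z} : Set G)) = Q)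
    (hQ : Cfsg.IsExtraspecial 2 Q) (hcard : Nat.card Q = 2 ^ 5)
    (cardC : Nat.card (centralizer ({z} : Set G)) = 1920)
    (hnwc : ∃ g : G, (∃ hq : g * z * g⁻¹ ∈ Subgroup.centralizer ({z} : Set G),
      (⟨g * z * g⁻¹, hq⟩ : Subgroup.centralizer ({z} : Set G)) ∈ Q) ∧ g * z * g⁻¹ ≠ z)
    (hcl : ∃ x y : G, orderOf x = 2 ∧ orderOf y = 2 ∧ ¬ IsConj x y) : Nonempty (QJ ≃* G) := by
  have key : ∀ t : G, orderOf t = 2 → ¬ IsConj t z → Nonempty (QJ ≃* G) := by
    intro t ht htz
    obtain ⟨x, B, nwc⟩ := exists_base_of_card z hz Q hF hQ hcard cardC hnwc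
    obtain ⟨g, S⟩ := B.j2set nwc ht htz
    obtain ⟨E, L, W⟩ := S.caseM.resolve_left S.not_48
    obtain ⟨K, h⟩ := W.j2Loc S
    exact J2Set.iso S h
  obtain ⟨a, b, ha, hb, hab⟩ := hcl
  by_cases haz : IsConj a z
  · exact key b hb (fun h => hab (haz.trans h.symm))
  · exact key a ha haz

end Cfsg.Agent.LE.J2U
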